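import Cfsg.Agent.Lib.Lead.ConwayXi
import Cfsg.Agent.Lib.Lead.ConwayOrder
import Cfsg.Agent.Lib.Lead.LeechCount
import Cfsg.Agent.Lib.helper4.ElemEnum

/-!
# An involution centraliser in `Co2`: definitions

`t0` is the sign change on the complement of the octad `O = {∞,0,1,2,4,13,16,22}`; it fixes
`leechU = 4e_∞ + 4e_0`.  The vectors of the lattice supported on `O` form a copy of `√2·E8` with the
basis `Ev` and the dual family `Dv` (`Ev i ⬝ Dv j = 16 δ_ij`).  The elements of `Co0` fixing `leechU`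
and commuting with `t0` act on this sublattice; `rho` is the matrix of this action, `phiM` the `6 × 6`
block of its reduction mod 2.
-/

set_option autoImplicit false
open Cfsg

namespace Cfsg.Agent.Lib.Lead.CI

open Cfsg.Agent.Lib.helper3 Cfsg.Agent.Lib.helper4 Cfsg.Agent.S1571 Cfsg.Agent.S0398
open Cfsg.Agent.Lib.Lead.LC

/-- membership in the octad `O = {∞,0,1,2,4,13,16,22}` -/
def inO (p : GolayPt) : Prop := gidx p ∈ ([23, 0, 1, 2, 4, 13, 16, 22] : List ℕ)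

instance : DecidablePred inO := fun p => by unfold inO; infer_instance

/-- the vector with a given table of coordinates (indexed by `gidx`) -/
def vecT (L : List ℤ) : GolayPt → ℤ := fun p => L.getD (gidx p) 0

/-- index type of the basis: the six middle vectors, then `leechU`, then the last vector -/
abbrev I8 := (Fin 3 ⊕ Fin 3) ⊕ Fin 2

/-- position of an index in the tables -/
def i8idx : I8 → ℕ
  | Sum.inl (Sum.inl i) => i.val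
  | Sum.inl (Sum.inr i) => 3 + i.val
  | Sum.inr j => 6 + j.val

/-- position of an index of the middle block -/
def s6 : Fin 3 ⊕ Fin 3 → ℕ
  | Sum.inl i => i.val
  | Sum.inr i => 3 + i.val

/-- the basis of the sublattice -/
def Etab : List (List ℤ) :=
  [[-2, -2, -2, 0, -2, 0, 0, 0, 0, 0, 0, 0, 0, -2, 0, 0, -2, 0, 0, 0, 0, 0, 2, 2],
  [0, -4, 4, 0, 0, 0, 0, 0, 0, 0, 0, 0, 0, 0, 0, 0, 0, 0, 0, 0, 0, 0, 0, 0],
  [0, -4, 4, 0, -4, 0, 0, 0, 0, 0, 0, 0, 0, 4, 0, 0, 0, 0, 0, 0, 0, 0, 0, 0],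
  [4, 0, 0, 0, 0, 0, 0, 0, 0, 0, 0, 0, 0, 0, 0, 0, 0, 0, 0, 0, 0, 0, 0, -4],
  [0, 0, -4, 0, 4, 0, 0, 0, 0, 0, 0, 0, 0, 0, 0, 0, 0, 0, 0, 0, 0, 0, 0, 0],
  [0, 0, 0, 0, 0, 0, 0, 0, 0, 0, 0, 0, 0, -4, 0, 0, 4, 0, 0, 0, 0, 0, 0, 0],
  [4, 0, 0, 0, 0, 0, 0, 0, 0, 0, 0, 0, 0, 0, 0, 0, 0, 0, 0, 0, 0, 0, 0, 4],
  [2, -6, -6, 0, 2, 0, 0, 0, 0, 0, 0, 0, 0, -6, 0, 0, 2, 0, 0, 0, 0, 0, 2, 2]]

/-- the dual family -/
def Dtab : List (List ℤ) :=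
  [[0, 4, 4, 0, 4, 0, 0, 0, 0, 0, 0, 0, 0, 4, 0, 0, 4, 0, 0, 0, 0, 0, 28, 0],
  [0, 0, 4, 0, 4, 0, 0, 0, 0, 0, 0, 0, 0, 0, 0, 0, 0, 0, 0, 0, 0, 0, 8, 0],
  [0, 0, 0, 0, 0, 0, 0, 0, 0, 0, 0, 0, 0, 4, 0, 0, 4, 0, 0, 0, 0, 0, 8, 0],
  [2, 2, 2, 0, 2, 0, 0, 0, 0, 0, 0, 0, 0, 2, 0, 0, 2, 0, 0, 0, 0, 0, 14, -2],
  [0, 4, 4, 0, 8, 0, 0, 0, 0, 0, 0, 0, 0, 8, 0, 0, 8, 0, 0, 0, 0, 0, 32, 0],
  [0, 4, 4, 0, 4, 0, 0, 0, 0, 0, 0, 0, 0, 4, 0, 0, 8, 0, 0, 0, 0, 0, 24, 0],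
  [2, 2, 2, 0, 2, 0, 0, 0, 0, 0, 0, 0, 0, 2, 0, 0, 2, 0, 0, 0, 0, 0, 10, 2],
  [0, -4, -4, 0, -4, 0, 0, 0, 0, 0, 0, 0, 0, -4, 0, 0, -4, 0, 0, 0, 0, 0, -20, 0]]

/-- the basis vectors -/
def Ev (k : I8) : GolayPt → ℤ := vecT (Etab.getD (i8idx k) [])

/-- the dual vectors -/
def Dv (k : I8) : GolayPt → ℤ := vecT (Dtab.getD (i8idx k) [])

set_option maxRecDepth 100000 in
theorem Ev_chk : ∀ k : I8, Cfsg.Agent.Lib.Lead.CW.isLeechB (Ev k) = true := by decide +kernel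

theorem Ev_mem (k : I8) : Ev k ∈ leechLattice := Cfsg.Agent.Lib.Lead.CW.isLeechB_sound _ (Ev_chk k)

/-- the basis vectors as elements of the lattice -/
def EL (k : I8) : ↥leechLattice := ⟨Ev k, Ev_mem k⟩

theorem EL_u : EL (Sum.inr 0) = Spor.leechU := by
  apply Subtype.ext
  funext p
  revert p
  decide

/-! ### the involution -/

/-- the sign change on the complement of the octad -/
def t0 : Equiv.Perm ↥leechLattice := flipE (Cw 4072) (Cw_mem 4072)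

theorem Cw_compl : ∀ p : GolayPt, Cw 4072 p ≠ 0 ↔ ¬ inO p := by decide

theorem t0_mem : t0 ∈ Co0 := flipE_mem _ _

theorem t0_apply (x : ↥leechLattice) (p : GolayPt) :
    (t0 x).1 p = if inO p then x.1 p else -x.1 p := by
  show (if Cw 4072 p ≠ 0 then -x.1 p else x.1 p) = _
  by_cases h : inO p
  · rw [if_neg (fun hc => (Cw_compl p).mp hc h), if_pos h]
  · rw [if_pos ((Cw_compl p).mpr h), if_neg h]

theorem t0_fix : t0 Spor.leechU = Spor.leechU := by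
  apply Subtype.ext
  funext p
  rw [t0_apply]
  revert p
  decide

/-- the involution as an element of `Co2` -/
def tt : ↥Spor.Co2 := ⟨t0, ⟨t0_mem, t0_fix⟩⟩

/-- the conditions describing the centraliser -/
def InC (g : Equiv.Perm ↥leechLattice) : Prop :=
  g ∈ Co0 ∧ g Spor.leechU = Spor.leechU ∧ g * t0 = t0 * g

/-! ### coordinates and matrices -/

/-- the coordinates with respect to `Ev` -/
def co (x : GolayPt → ℤ) (k : I8) : ℤ := dotInt x (Dv k) / 16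

/-- the integral matrix of the action on the sublattice -/
def rho (g : Equiv.Perm ↥leechLattice) : Matrix I8 I8 ℤ := fun k j => co (g (EL j)).1 k

/-- its reduction mod 2 -/
def rho2 (g : Equiv.Perm ↥leechLattice) : Matrix I8 I8 (ZMod 2) :=
  (rho g).map (Int.cast : ℤ → ZMod 2)

/-- the middle block -/
def phiM (g : Equiv.Perm ↥leechLattice) : Matrix (Fin 3 ⊕ Fin 3) (Fin 3 ⊕ Fin 3) (ZMod 2) :=
  (rho2 g).toBlocks₁₁

/-- the Gram matrix of the basis, divided by 16 -/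
def Gm : Matrix I8 I8 ℤ := fun k l => dotInt (Ev k) (Ev l) / 16

/-- the Gram matrix mod 2 -/
def G2 : Matrix I8 I8 (ZMod 2) :=
  Matrix.fromBlocks (Matrix.J (Fin 3) (ZMod 2)) 0 0 !![0, 1; 1, 0]

/-- a `6 × 6` matrix over `𝔽₂` from a table -/
def matT (T : List (List ℕ)) : Matrix (Fin 3 ⊕ Fin 3) (Fin 3 ⊕ Fin 3) (ZMod 2) :=
  fun i j => (((T.getD (s6 i) []).getD (s6 j) 0 : ℕ) : ZMod 2)

def T1 : List (List ℕ) := [[1, 0, 0, 0, 0, 0], [0, 0, 1, 0, 0, 0], [1, 1, 1, 0, 0, 0],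
  [1, 1, 1, 1, 1, 0], [0, 0, 1, 0, 1, 1], [0, 1, 1, 0, 1, 0]]
def T2 : List (List ℕ) := [[1, 0, 0, 0, 0, 0], [0, 1, 1, 0, 1, 1], [0, 0, 0, 0, 1, 1],
  [0, 0, 0, 1, 0, 0], [0, 0, 0, 0, 1, 0], [0, 0, 1, 0, 0, 1]]
def T3 : List (List ℕ) := [[0, 0, 0, 0, 0, 1], [0, 1, 0, 0, 0, 0], [0, 0, 0, 1, 0, 0],
  [0, 0, 1, 0, 0, 0], [0, 0, 0, 0, 1, 0], [1, 0, 0, 0, 0, 0]]
def Tu : List (List ℕ) := [[1, 0, 0, 0, 0, 0], [0, 1, 0, 0, 1, 0], [0, 0, 1, 0, 0, 0],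
  [0, 0, 0, 1, 0, 0], [0, 0, 0, 0, 1, 0], [0, 0, 0, 0, 0, 1]]

/-! ### monomial elements -/

/-- the monomial element with sign word `Cw k` and coordinate permutation given by the table `L` -/
noncomputable def mono (k : ℕ) (L : List ℕ) (hok : Cfsg.Agent.Lib.Helper12.Golay.okK L = true) :
    ↥Co0 :=
  mk ⟨Cw k, Cw_mem k⟩ ⟨fperm L, fperm_mem hok⟩

theorem mono_apply (k : ℕ) (L : List ℕ) (hok : Cfsg.Agent.Lib.Helper12.Golay.okK L = true)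
    (x : ↥leechLattice) (p : GolayPt) :
    ((mono k L hok).1 x).1 p =
      if Cw k p ≠ 0 then -(x.1 (Cfsg.Agent.Lib.Helper12.Golay.tblFun L p))
      else x.1 (Cfsg.Agent.Lib.Helper12.Golay.tblFun L p) := by
  have h := congrFun (mk_apply ⟨Cw k, Cw_mem k⟩ ⟨fperm L, fperm_mem hok⟩ x) p
  rw [fperm_apply (Cfsg.Agent.Lib.Helper12.Golay.okK_valid hok)] at h
  exact h

/-- the pointwise stabiliser of the sublattice, as a set -/
def Kset : Set (Equiv.Perm ↥leechLattice) :=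
  {g | ∃ (w : ↥golayCode) (π : ↥M24), (∀ p, inO p → w.1 p = 0) ∧ (∀ p, inO p → π.1 p = p) ∧
    g = (mk w π).1}

end Cfsg.Agent.Lib.Lead.CI
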