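import Cfsg.Agent.Lib.Lead.Co2Inv.Elts
import Cfsg.Agent.Lib.Helper24.CIP4b2
import Cfsg.Agent.Lib.Helper25.CIP4b1
import Cfsg.Agent.Lib.Helper25.CIP4a

/-!
# The order of the centraliser is at most `126 * 1024 * 5760`
-/

set_option autoImplicit false
open Cfsg

namespace Cfsg.Agent.Lib.Lead.CI

open Cfsg.Agent.Lib.helper3 Cfsg.Agent.Lib.helper4 Cfsg.Agent.S1571 Cfsg.Agent.S0398
open Cfsg.Agent.Lib.Lead.LC

instance finCo0 : Finite ↥Co0 :=
  Nat.finite_of_card_ne_zero (by rw [Cfsg.Agent.Lib.Lead.CO.card_Co0]; norm_num)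

instance finCo2 : Finite ↥Spor.Co2 :=
  Finite.of_injective (fun g : ↥Spor.Co2 => (⟨g.1, g.2.1⟩ : ↥Co0)) (by
    intro a b h
    apply Subtype.ext
    exact congrArg (fun x : ↥Co0 => x.1) h)

/-! ### the orbit -/

/-- the candidates for the images of `leechU'` -/
def R126 : Set ↥leechLattice :=
  {u | sqNorm u.1 = 32 ∧ (∀ p, ¬ inO p → u.1 p = 0) ∧ u.1 none + u.1 (some 0) = 0}

theorem dot_vecU (x : GolayPt → ℤ) : dotInt x Spor.vecU = 4 * x none + 4 * x (some 0) := by
  unfold dotInt Spor.vecU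
  have h : ∀ p : GolayPt, x p * (if p = none ∨ p = some 0 then (4 : ℤ) else 0) =
      (if p = none then 4 * x p else 0) + (if p = some 0 then 4 * x p else 0) := by
    intro p
    by_cases h1 : p = none
    · subst h1
      simp
      ring
    · by_cases h2 : p = some 0
      · subst h2
        simp
        ring
      · simp [h1, h2]
  simp only [h]
  rw [Finset.sum_add_distrib, Finset.sum_ite_eq' Finset.univ none,
    Finset.sum_ite_eq' Finset.univ (some 0)]
  simp

theorem suppO_U' : suppO Spor.leechU'.1 := by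
  unfold suppO
  decide

theorem norm_U' : sqNorm Spor.leechU'.1 = 32 := by decide

theorem dot_U'_U : dotInt Spor.leechU'.1 Spor.leechU.1 = 0 := by decide

theorem smul_def' (c : ↥Cent) (x : ↥leechLattice) : c • x = c.1.1 x := rfl

theorem orbit_sub : MulAction.orbit ↥Cent Spor.leechU' ⊆ R126 := by
  rintro u ⟨c, rfl⟩
  have hc := inC_of c
  show sqNorm (c.1.1 Spor.leechU').1 = 32 ∧ suppO (c.1.1 Spor.leechU').1 ∧
    (c.1.1 Spor.leechU').1 none + (c.1.1 Spor.leechU').1 (some 0) = 0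
  refine ⟨?_, hc.supp _ suppO_U', ?_⟩
  · rw [hc.1.2, norm_U']
  · have h := Cfsg.Agent.Lib.Lead.CP.dot_map ⟨c.1.1, hc.1⟩ Spor.leechU' Spor.leechU
    have h2 : dotInt (c.1.1 Spor.leechU').1 (c.1.1 Spor.leechU).1 = 0 := by
      rw [← dot_U'_U]
      exact h
    rw [hc.2.1] at h2
    have h3 : dotInt (c.1.1 Spor.leechU').1 Spor.vecU = 0 := h2
    rw [dot_vecU] at h3
    omega

theorem orbit_ncard_le : (MulAction.orbit ↥Cent Spor.leechU').ncard ≤ 126 :=
  (Set.ncard_le_ncard orbit_sub Cfsg.Agent.Lib.Helper25.CI.p4a_ncard.2).trans Cfsg.Agent.Lib.Helper25.CI.p4a_ncard.1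

/-! ### the stabiliser -/

theorem ev_none_eq : ev none = Spor.leechU + Spor.leechU' := by
  apply Subtype.ext
  funext p
  show (Pi.single none (8 : ℤ) : GolayPt → ℤ) p = Spor.vecU p + Spor.vecU' p
  revert p
  decide

theorem ev_zero_eq : ev (some 0) = Spor.leechU - Spor.leechU' := by
  apply Subtype.ext
  funext p
  show (Pi.single (some 0) (8 : ℤ) : GolayPt → ℤ) p = Spor.vecU p - Spor.vecU' p
  revert p
  decide

theorem mk_ev (w : ↥golayCode) (π : ↥M24) (i k : GolayPt) :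
    ((mk w π).1 (ev i)).1 k =
      if w.1 k ≠ 0 then -(if π.1 k = i then (8 : ℤ) else 0) else (if π.1 k = i then 8 else 0) := by
  have h := congrFun (mk_apply w π (ev i)) k
  rw [h, ev_val, Pi.single_apply]

theorem fix_ev (w : ↥golayCode) (π : ↥M24) (i : GolayPt)
    (h : (mk w π).1 (ev i) = ev i) : w.1 i = 0 ∧ π.1 i = i := by
  have h1 : ((mk w π).1 (ev i)).1 i = (ev i).1 i := by rw [h]
  rw [mk_ev, ev_val, Pi.single_eq_same] at h1
  by_cases hp : π.1 i = i
  · refine ⟨?_, hp⟩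
    rw [if_pos hp] at h1
    by_contra hw
    rw [if_pos hw] at h1
    omega
  · rw [if_neg hp] at h1
    split_ifs at h1 <;> omega

theorem stab_struct (g : Equiv.Perm ↥leechLattice) (hg : InC g)
    (hfix : g Spor.leechU' = Spor.leechU') :
    ∃ (w : ↥golayCode) (π : ↥M24), g = (mk w π).1 ∧ (w.1 none = 0 ∧ w.1 (some 0) = 0) ∧
      (π.1 none = none ∧ π.1 (some 0) = some 0 ∧ ∀ p, inO p → inO (π.1 p)) := by
  have h1 : g (ev none) = ev none := by
    rw [ev_none_eq, hg.1.1, hg.2.1, hfix]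
  have h2 : g (ev (some 0)) = ev (some 0) := by
    have := Cfsg.Agent.Lib.Lead.CO.map_sub' ⟨g, hg.1⟩ Spor.leechU Spor.leechU'
    rw [ev_zero_eq]
    show (⟨g, hg.1⟩ : ↥Co0).1 (Spor.leechU - Spor.leechU') = _
    rw [this]
    show g Spor.leechU - g Spor.leechU' = _
    rw [hg.2.1, hfix]
  have hH : (⟨g, hg.1⟩ : ↥Co0) ∈ Cfsg.Agent.Lib.Lead.CO.H := by
    rw [Cfsg.Agent.Lib.Lead.CO.mem_H]
    show Cfsg.Agent.Lib.Lead.LX.cl (g (ev none)).1 = _
    rw [h1]
  obtain ⟨w, π, hwπ⟩ := stab_eq_mk _ ((Cfsg.Agent.Lib.Lead.CO.mem_H_iff_stab _).mp hH)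
  have hg' : g = (mk w π).1 := congrArg Subtype.val hwπ
  refine ⟨w, π, hg', ?_, ?_⟩
  · rw [hg'] at h1 h2
    exact ⟨(fix_ev w π none h1).1, (fix_ev w π (some 0) h2).1⟩
  · have e1 := hg' ▸ h1
    have e2 := hg' ▸ h2
    refine ⟨(fix_ev w π none e1).2, (fix_ev w π (some 0) e2).2, ?_⟩
    intro p hp
    by_contra hq
    have hc := congrArg (fun f : Equiv.Perm ↥leechLattice => (f (ev (π.1 p))).1 p) hg.2.2
    simp only [Equiv.Perm.mul_apply] at hc
    rw [t0_apply, if_pos hp, hg'] at hc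
    have ha := congrFun (mk_apply w π (t0 (ev (π.1 p)))) p
    have hb := mk_ev w π (π.1 p) p
    rw [ha, hb, t0_apply, if_neg hq, ev_val, Pi.single_eq_same, if_pos rfl] at hc
    split_ifs at hc <;> omega

/-- the sign words of the stabiliser -/
def SA : Set ↥golayCode := {w | w.1 none = 0 ∧ w.1 (some 0) = 0}

/-- the permutations of the stabiliser -/
def SB : Set ↥M24 := {π | π.1 none = none ∧ π.1 (some 0) = some 0 ∧ ∀ p, inO p → inO (π.1 p)}

theorem card_stab_le :
    Nat.card ↥(MulAction.stabilizer ↥Cent Spor.leechU') ≤ 1024 * 5760 := by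
  classical
  have key : ∀ c : ↥(MulAction.stabilizer ↥Cent Spor.leechU'),
      ∃ ab : ↥SA × ↥SB, c.1.1.1 = (mk ab.1.1 ab.2.1).1 := by
    intro c
    have hfix : c.1.1.1 Spor.leechU' = Spor.leechU' := c.2
    obtain ⟨w, π, h1, h2, h3⟩ := stab_struct c.1.1.1 (inC_of c.1) hfix
    exact ⟨(⟨w, h2⟩, ⟨π, h3⟩), h1⟩
  choose f hf using key
  have hinj : Function.Injective f := by
    intro c d hcd
    apply Subtype.ext
    apply Subtype.ext
    apply Subtype.ext
    rw [hf c, hf d, hcd]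
  have h1 := Nat.card_le_card_of_injective f hinj
  rw [Nat.card_prod, Nat.card_coe_set_eq, Nat.card_coe_set_eq] at h1
  calc Nat.card ↥(MulAction.stabilizer ↥Cent Spor.leechU') ≤ SA.ncard * SB.ncard := h1
    _ ≤ 1024 * 5760 := Nat.mul_le_mul Cfsg.Agent.Lib.Helper25.CI.p4b1.1 Cfsg.Agent.Lib.Helper24.CI.p4b2

theorem card_Cent_le : Nat.card ↥Cent ≤ 743178240 := by
  have h1 := Subgroup.index_mul_card (MulAction.stabilizer ↥Cent Spor.leechU')
  rw [MulAction.index_stabilizer] at h1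
  rw [← h1]
  calc (MulAction.orbit ↥Cent Spor.leechU').ncard *
        Nat.card ↥(MulAction.stabilizer ↥Cent Spor.leechU') ≤ 126 * (1024 * 5760) :=
      Nat.mul_le_mul orbit_ncard_le card_stab_le
    _ = 743178240 := by norm_num

end Cfsg.Agent.Lib.Lead.CI
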