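import Cfsg.Agent.Lib.Lead.Co2Inv.Defs
import Cfsg.Agent.Lib.Helper19.CIP1
import Cfsg.Agent.Lib.Helper22.CIP7
import Cfsg.Agent.Lib.Helper22.CIP8
import Cfsg.Agent.Lib.Lead.ConwayPairs

/-!
# The action of the centraliser on the sublattice
-/

set_option autoImplicit false
open Cfsg

namespace Cfsg.Agent.Lib.Lead.CI

open Cfsg.Agent.Lib.helper3 Cfsg.Agent.Lib.helper4 Cfsg.Agent.S1571 Cfsg.Agent.S0398
open Cfsg.Agent.Lib.Lead.LC

/-- supported on the octad -/
def suppO (x : GolayPt → ℤ) : Prop := ∀ p, ¬ inO p → x p = 0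

theorem t0_fixed_iff (x : ↥leechLattice) : t0 x = x ↔ suppO x.1 := by
  constructor
  · intro h p hp
    have h1 : (t0 x).1 p = x.1 p := by rw [h]
    rw [t0_apply, if_neg hp] at h1
    omega
  · intro h
    apply Subtype.ext
    funext p
    rw [t0_apply]
    by_cases hp : inO p
    · rw [if_pos hp]
    · rw [if_neg hp, h p hp, neg_zero]

theorem InC.supp {g : Equiv.Perm ↥leechLattice} (hg : InC g) (x : ↥leechLattice)
    (hx : suppO x.1) : suppO (g x).1 := by
  rw [← t0_fixed_iff] at hx ⊢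
  have h := congrArg (fun f : Equiv.Perm ↥leechLattice => f x) hg.2.2
  simp only [Equiv.Perm.mul_apply] at h
  rw [← h, hx]

theorem InC.one : InC 1 := ⟨Co0.one_mem, rfl, by rw [one_mul, mul_one]⟩

theorem InC.mul {g h : Equiv.Perm ↥leechLattice} (hg : InC g) (hh : InC h) : InC (g * h) := by
  refine ⟨Co0.mul_mem hg.1 hh.1, ?_, ?_⟩
  · rw [Equiv.Perm.mul_apply, hh.2.1, hg.2.1]
  · rw [mul_assoc, hh.2.2, ← mul_assoc, hg.2.2, mul_assoc]

set_option maxRecDepth 100000 in
theorem Dv_chk : ∀ k : I8, Cfsg.Agent.Lib.Lead.CW.isLeechB (Dv k) = true := by decide +kernel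

theorem Dv_mem (k : I8) : Dv k ∈ leechLattice := Cfsg.Agent.Lib.Lead.CW.isLeechB_sound _ (Dv_chk k)

theorem Dv_supp : ∀ k : I8, suppO (Dv k) := by
  unfold suppO
  decide

theorem Ev_supp : ∀ k : I8, suppO (Ev k) := by
  unfold suppO
  decide

set_option maxRecDepth 100000 in
theorem co_Ev : ∀ j k : I8, co (Ev j) k = if k = j then 1 else 0 := by
  unfold co
  decide +kernel

set_option maxRecDepth 100000 in
theorem Gm_spec : ∀ k l : I8, dotInt (Ev k) (Ev l) = 16 * Gm k l := by
  unfold Gm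
  decide +kernel

set_option maxRecDepth 100000 in
theorem Gm_map : Gm.map (Int.cast : ℤ → ZMod 2) = G2 := by
  decide +kernel

theorem co_spec (x : GolayPt → ℤ) (hx : x ∈ leechLattice) (hs : suppO x) (k : I8) :
    dotInt x (Dv k) = 16 * co x k := by
  obtain ⟨c, hc⟩ := Cfsg.Agent.Lib.Helper22.CI.p7_dot x (Dv k) hx (Dv_mem k) hs (Dv_supp k)
  unfold co
  rw [hc]
  omega

/-- expansion in the basis -/
theorem expand (x : GolayPt → ℤ) (hx : x ∈ leechLattice) (hs : suppO x) (q : GolayPt) :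
    x q = ∑ k : I8, co x k * Ev k q := by
  have h := Cfsg.Agent.Lib.Helper22.CI.p8_expand x hs q
  have h2 : ∑ k : I8, dotInt x (Dv k) * Ev k q = 16 * ∑ k : I8, co x k * Ev k q := by
    rw [Finset.mul_sum]
    apply Finset.sum_congr rfl
    intro k _
    rw [co_spec x hx hs k]
    ring
  rw [h2] at h
  omega

theorem expandL (x : ↥leechLattice) (hs : suppO x.1) : x = ∑ k : I8, co x.1 k • EL k := by
  apply Subtype.ext
  funext q
  rw [expand x.1 x.2 hs q, AddSubgroup.val_finsetSum, Finset.sum_apply]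
  apply Finset.sum_congr rfl
  intro k _
  rw [AddSubgroup.coe_zsmul, Pi.smul_apply, smul_eq_mul]
  rfl

theorem dot_sum_left (c : I8 → ℤ) (f : I8 → GolayPt → ℤ) (y : GolayPt → ℤ) :
    dotInt (fun q => ∑ k : I8, c k * f k q) y = ∑ k : I8, c k * dotInt (f k) y := by
  unfold dotInt
  simp only [Finset.sum_mul, Finset.mul_sum]
  rw [Finset.sum_comm]
  apply Finset.sum_congr rfl
  intro k _
  apply Finset.sum_congr rfl
  intro q _
  ring

theorem dot_comm' (x y : GolayPt → ℤ) : dotInt x y = dotInt y x := by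
  unfold dotInt
  apply Finset.sum_congr rfl
  intro q _
  ring

/-- the image of a vector of the sublattice -/
theorem map_expand {g : Equiv.Perm ↥leechLattice} (hg : InC g) (x : ↥leechLattice)
    (hs : suppO x.1) (q : GolayPt) :
    (g x).1 q = ∑ k : I8, co x.1 k * (g (EL k)).1 q := by
  have h1 : g x = ∑ k : I8, co x.1 k • g (EL k) := by
    conv_lhs => rw [expandL x hs]
    have := map_sum (toHom ⟨g, hg.1⟩) (fun k => co x.1 k • EL k) Finset.univ
    simp only [toHom_apply] at this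
    rw [this]
    apply Finset.sum_congr rfl
    intro k _
    have := map_zsmul (toHom ⟨g, hg.1⟩) (co x.1 k) (EL k)
    simp only [toHom_apply] at this
    exact this
  rw [h1, AddSubgroup.val_finsetSum, Finset.sum_apply]
  apply Finset.sum_congr rfl
  intro k _
  rw [AddSubgroup.coe_zsmul, Pi.smul_apply, smul_eq_mul]

theorem co_lin {g : Equiv.Perm ↥leechLattice} (hg : InC g) (x : ↥leechLattice)
    (hs : suppO x.1) (i : I8) :
    co (g x).1 i = ∑ k : I8, rho g i k * co x.1 k := by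
  have h1 : (g x).1 = fun q => ∑ k : I8, co x.1 k * (g (EL k)).1 q := by
    funext q
    exact map_expand hg x hs q
  have h2 : dotInt (g x).1 (Dv i) = 16 * ∑ k : I8, rho g i k * co x.1 k := by
    rw [h1, dot_sum_left, Finset.mul_sum]
    apply Finset.sum_congr rfl
    intro k _
    rw [co_spec (g (EL k)).1 (g (EL k)).2 (hg.supp (EL k) (Ev_supp k)) i]
    unfold rho
    ring
  unfold co at h2 ⊢
  rw [h2]
  omega

theorem rho_mul {g h : Equiv.Perm ↥leechLattice} (hg : InC g) (hh : InC h) :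
    rho (g * h) = rho g * rho h := by
  funext i j
  rw [Matrix.mul_apply]
  show co (g (h (EL j))).1 i = _
  rw [co_lin hg (h (EL j)) (hh.supp (EL j) (Ev_supp j)) i]
  rfl

theorem rho_one : rho 1 = 1 := by
  funext i j
  show co (Ev j) i = _
  rw [co_Ev, Matrix.one_apply]

theorem rho_col {g : Equiv.Perm ↥leechLattice} (hg : InC g) (k : I8) :
    rho g k (Sum.inr 0) = if k = Sum.inr 0 then 1 else 0 := by
  show co (g (EL (Sum.inr 0))).1 k = _
  rw [EL_u, hg.2.1, ← EL_u]
  exact co_Ev _ _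

theorem rho_gram {g : Equiv.Perm ↥leechLattice} (hg : InC g) :
    (rho g).transpose * Gm * rho g = Gm := by
  funext i j
  have h0 := Cfsg.Agent.Lib.Lead.CP.dot_map ⟨g, hg.1⟩ (EL i) (EL j)
  have hi : (g (EL i)).1 = fun q => ∑ k : I8, rho g k i * Ev k q := by
    funext q
    exact expand (g (EL i)).1 (g (EL i)).2 (hg.supp (EL i) (Ev_supp i)) q
  have hj : (g (EL j)).1 = fun q => ∑ k : I8, rho g k j * Ev k q := by
    funext q
    exact expand (g (EL j)).1 (g (EL j)).2 (hg.supp (EL j) (Ev_supp j)) q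
  have h1 : dotInt (g (EL i)).1 (g (EL j)).1 =
      16 * ∑ k : I8, ∑ l : I8, rho g k i * Gm k l * rho g l j := by
    rw [hi, dot_sum_left, Finset.mul_sum]
    apply Finset.sum_congr rfl
    intro k _
    rw [dot_comm', hj, dot_sum_left, Finset.mul_sum, Finset.mul_sum]
    apply Finset.sum_congr rfl
    intro l _
    rw [dot_comm' (Ev l) (Ev k), Gm_spec]
    ring
  have h2 : dotInt (EL i).1 (EL j).1 = 16 * Gm i j := Gm_spec i j
  have h3 : ∑ k : I8, ∑ l : I8, rho g k i * Gm k l * rho g l j = Gm i j := by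
    have : dotInt ((⟨g, hg.1⟩ : ↥Co0).1 (EL i)).1 ((⟨g, hg.1⟩ : ↥Co0).1 (EL j)).1
        = dotInt (g (EL i)).1 (g (EL j)).1 := rfl
    rw [this, h1, h2] at h0
    omega
  rw [← h3, Matrix.mul_apply]
  simp only [Matrix.mul_apply, Matrix.transpose_apply, Finset.sum_mul]
  rw [Finset.sum_comm]

/-! ### reduction mod 2 -/

theorem rho2_mul {g h : Equiv.Perm ↥leechLattice} (hg : InC g) (hh : InC h) :
    rho2 (g * h) = rho2 g * rho2 h := by
  unfold rho2
  rw [rho_mul hg hh]
  exact Matrix.map_mul (f := Int.castRingHom (ZMod 2))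

theorem rho2_col {g : Equiv.Perm ↥leechLattice} (hg : InC g) (k : I8) :
    rho2 g k (Sum.inr 0) = if k = Sum.inr 0 then 1 else 0 := by
  show ((rho g k (Sum.inr 0) : ℤ) : ZMod 2) = _
  rw [rho_col hg]
  split_ifs <;> simp

theorem rho2_gram {g : Equiv.Perm ↥leechLattice} (hg : InC g) :
    (rho2 g).transpose * G2 * rho2 g = G2 := by
  have h : ((rho g).transpose * Gm * rho g).map (Int.castRingHom (ZMod 2)) = G2 := by
    rw [rho_gram hg]
    exact Gm_map
  rw [Matrix.map_mul, Matrix.map_mul, Matrix.transpose_map] at h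
  have hG : Gm.map (Int.castRingHom (ZMod 2)) = G2 := Gm_map
  rw [hG] at h
  exact h

theorem phiM_mul {g h : Equiv.Perm ↥leechLattice} (hg : InC g) (hh : InC h) :
    phiM (g * h) = phiM g * phiM h := by
  unfold phiM
  rw [rho2_mul hg hh]
  exact Cfsg.Agent.Lib.Helper19.CI.p1_mul _ _ (rho2_gram hh) (rho2_col hg) (rho2_col hh)

theorem phiM_symp {g : Equiv.Perm ↥leechLattice} (hg : InC g) :
    phiM g ∈ Matrix.symplecticGroup (Fin 3) (ZMod 2) :=
  Cfsg.Agent.Lib.Helper19.CI.p1_symp _ (rho2_gram hg) (rho2_col hg)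

theorem phiM_one : phiM 1 = 1 := by
  unfold phiM rho2
  rw [rho_one]
  ext i j
  simp [Matrix.toBlocks₁₁, Matrix.one_apply]

end Cfsg.Agent.Lib.Lead.CI
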