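import Cfsg.Agent.Lib.Lead.Co2Inv.Core
import Cfsg.Agent.Lib.Helper11.CIP3

/-!
# The homomorphism to `Sp6(2)` and explicit elements of the centraliser
-/

set_option autoImplicit false
open Cfsg

namespace Cfsg.Agent.Lib.Lead.CI

open Cfsg.Agent.Lib.helper3 Cfsg.Agent.Lib.helper4 Cfsg.Agent.S1571 Cfsg.Agent.S0398
open Cfsg.Agent.Lib.Lead.LC

/-- the centraliser of the involution -/
abbrev Cent : Subgroup ↥Spor.Co2 := Subgroup.centralizer ({tt} : Set ↥Spor.Co2)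

theorem inC_of (c : ↥Cent) : InC c.1.1 := by
  refine ⟨c.1.2.1, c.1.2.2, ?_⟩
  have h1 := c.2
  rw [Subgroup.mem_centralizer_iff] at h1
  have h := h1 tt (Set.mem_singleton tt)
  have h2 := congrArg Subtype.val h
  exact h2.symm

/-- elements of the centraliser from the conditions -/
def mkC (g : Equiv.Perm ↥leechLattice) (hg : InC g) : ↥Cent :=
  ⟨⟨g, ⟨hg.1, hg.2.1⟩⟩, by
    rw [Subgroup.mem_centralizer_iff]
    intro h hh
    rw [Set.mem_singleton_iff] at hh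
    subst hh
    apply Subtype.ext
    exact hg.2.2.symm⟩

theorem mkC_val (g : Equiv.Perm ↥leechLattice) (hg : InC g) : (mkC g hg).1.1 = g := rfl

/-- the homomorphism to the symplectic group -/
noncomputable def Phi : ↥Cent →* Matrix.symplecticGroup (Fin 3) (ZMod 2) where
  toFun c := ⟨phiM c.1.1, phiM_symp (inC_of c)⟩
  map_one' := Subtype.ext phiM_one
  map_mul' c d := Subtype.ext (phiM_mul (inC_of c) (inC_of d))

theorem Phi_val (c : ↥Cent) : (Phi c).1 = phiM c.1.1 := rfl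

/-! ### computing `phiM` -/

theorem phiM_eq (g : Equiv.Perm ↥leechLattice) (F : (GolayPt → ℤ) → (GolayPt → ℤ))
    (hF : ∀ j : I8, (g (EL j)).1 = F (Ev j)) (T : List (List ℕ))
    (chk : ∀ i j : Fin 3 ⊕ Fin 3,
      ((dotInt (F (Ev (Sum.inl j))) (Dv (Sum.inl i)) / 16 : ℤ) : ZMod 2) =
        (((T.getD (s6 i) []).getD (s6 j) 0 : ℕ) : ZMod 2)) :
    phiM g = matT T := by
  ext i j
  show ((co (g (EL (Sum.inl j))).1 (Sum.inl i) : ℤ) : ZMod 2) = _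
  rw [hF]
  exact chk i j

/-- a monomial map on vectors -/
def monoV (k : ℕ) (L : List ℕ) (x : GolayPt → ℤ) : GolayPt → ℤ :=
  fun p => if Cw k p ≠ 0 then -(x (Cfsg.Agent.Lib.Helper12.Golay.tblFun L p))
    else x (Cfsg.Agent.Lib.Helper12.Golay.tblFun L p)

theorem mono_val (k : ℕ) (L : List ℕ) (hok : Cfsg.Agent.Lib.Helper12.Golay.okK L = true)
    (x : ↥leechLattice) : ((mono k L hok).1 x).1 = monoV k L x.1 :=
  funext (mono_apply k L hok x)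

theorem mono_comm_t0 (k : ℕ) (L : List ℕ) (hok : Cfsg.Agent.Lib.Helper12.Golay.okK L = true)
    (hO : ∀ p, inO (Cfsg.Agent.Lib.Helper12.Golay.tblFun L p) ↔ inO p) :
    (mono k L hok).1 * t0 = t0 * (mono k L hok).1 := by
  apply Equiv.ext
  intro x
  apply Subtype.ext
  funext p
  show ((mono k L hok).1 (t0 x)).1 p = (t0 ((mono k L hok).1 x)).1 p
  rw [mono_apply, t0_apply, t0_apply, mono_apply]
  by_cases h1 : inO p
  · rw [if_pos ((hO p).mpr h1), if_pos h1]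
  · rw [if_neg (fun h => h1 ((hO p).mp h)), if_neg h1]
    split_ifs <;> ring

theorem mono_inC (k : ℕ) (L : List ℕ) (hok : Cfsg.Agent.Lib.Helper12.Golay.okK L = true)
    (hfix : monoV k L Spor.vecU = Spor.vecU)
    (hO : ∀ p, inO (Cfsg.Agent.Lib.Helper12.Golay.tblFun L p) ↔ inO p) :
    InC (mono k L hok).1 := by
  refine ⟨(mono k L hok).2, ?_, mono_comm_t0 k L hok hO⟩
  apply Subtype.ext
  rw [mono_val]
  exact hfix

/-! ### Conway's element commutes with the involution -/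

theorem inO_pt : ∀ (t : Fin 6) (a : Fin 4),
    inO (Cfsg.Agent.Lib.Lead.CW.pt t a) ↔ (t = 0 ∨ t = 1) := by decide

theorem t0_pt (x : ↥leechLattice) (t : Fin 6) (a : Fin 4) :
    (t0 x).1 (Cfsg.Agent.Lib.Lead.CW.pt t a) =
      if (t = 0 ∨ t = 1) then x.1 (Cfsg.Agent.Lib.Lead.CW.pt t a)
      else -x.1 (Cfsg.Agent.Lib.Lead.CW.pt t a) := by
  rw [t0_apply]
  simp only [inO_pt]

theorem xi_comm_t0 : Cfsg.Agent.Lib.Lead.CW.xiE * t0 = t0 * Cfsg.Agent.Lib.Lead.CW.xiE := by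
  apply Equiv.ext
  intro x
  apply Subtype.ext
  funext p
  show Cfsg.Agent.Lib.Lead.CW.xiV (t0 x).1 p = (t0 (Cfsg.Agent.Lib.Lead.CW.xiE x)).1 p
  rw [← Cfsg.Agent.Lib.Lead.CW.pt_tIdx_aIdx p]
  generalize Cfsg.Agent.Lib.Lead.CW.tIdx p = t
  generalize Cfsg.Agent.Lib.Lead.CW.aIdx p = a
  have hb : Cfsg.Agent.Lib.Lead.CW.bsum (t0 x).1 t =
      if (t = 0 ∨ t = 1) then Cfsg.Agent.Lib.Lead.CW.bsum x.1 t
      else -Cfsg.Agent.Lib.Lead.CW.bsum x.1 t := by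
    unfold Cfsg.Agent.Lib.Lead.CW.bsum
    rw [t0_pt, t0_pt, t0_pt, t0_pt]
    split_ifs <;> ring
  rw [Cfsg.Agent.Lib.Lead.CW.xiV_pt, t0_pt x, hb, t0_pt]
  show _ = if (t = 0 ∨ t = 1) then Cfsg.Agent.Lib.Lead.CW.xiV x.1 (Cfsg.Agent.Lib.Lead.CW.pt t a)
    else -Cfsg.Agent.Lib.Lead.CW.xiV x.1 (Cfsg.Agent.Lib.Lead.CW.pt t a)
  rw [Cfsg.Agent.Lib.Lead.CW.xiV_pt]
  obtain ⟨c, hc⟩ := Cfsg.Agent.Lib.Lead.CW.bsum_even x.1 x.2 t
  split_ifs with h
  · rfl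
  · rw [hc]
    have e1 : -(2 * c) / 2 = -c := by omega
    have e2 : 2 * c / 2 = c := by omega
    rw [e1, e2]
    ring

/-! ### the explicit elements -/

def Lp1 : List ℕ := [0, 4, 16, 14, 13, 20, 18, 6, 21, 3, 10, 11, 12, 1, 9, 15, 22, 5, 7, 8, 17, 19, 2, 23]
def Lp2 : List ℕ := [0, 1, 2, 10, 16, 15, 21, 6, 14, 8, 18, 5, 17, 4, 9, 11, 13, 20, 3, 19, 12, 7, 22, 23]
def Lpu : List ℕ := [23, 2, 1, 9, 4, 10, 18, 11, 6, 17, 14, 21, 7, 13, 15, 5, 16, 20, 19, 8, 3, 12, 22, 0]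
def Lpm : List ℕ := [13, 2, 0, 3, 23, 17, 8, 15, 5, 12, 11, 14, 7, 1, 19, 9, 16, 6, 21, 10, 20, 18, 22, 4]
def Lpi : List ℕ := [2, 13, 1, 3, 23, 8, 17, 12, 6, 15, 19, 10, 9, 0, 11, 7, 16, 5, 21, 14, 20, 18, 22, 4]

theorem okp1 : Cfsg.Agent.Lib.Helper12.Golay.okK Lp1 = true := by decide
theorem okp2 : Cfsg.Agent.Lib.Helper12.Golay.okK Lp2 = true := by decide
theorem okpu : Cfsg.Agent.Lib.Helper12.Golay.okK Lpu = true := by decide
theorem okpm : Cfsg.Agent.Lib.Helper12.Golay.okK Lpm = true := by decide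
theorem okpi : Cfsg.Agent.Lib.Helper12.Golay.okK Lpi = true := by decide

theorem presO : ∀ L ∈ [Lp1, Lp2, Lpu, Lpm, Lpi],
    ∀ p, inO (Cfsg.Agent.Lib.Helper12.Golay.tblFun L p) ↔ inO p := by decide

theorem fix1 : monoV 0 Lp1 Spor.vecU = Spor.vecU := by decide
theorem fix2 : monoV 0 Lp2 Spor.vecU = Spor.vecU := by decide
theorem fixu : monoV 286 Lpu Spor.vecU = Spor.vecU := by decide

/-- the first generator -/
noncomputable def h1 : Equiv.Perm ↥leechLattice := (mono 0 Lp1 okp1).1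
/-- the second generator -/
noncomputable def h2 : Equiv.Perm ↥leechLattice := (mono 0 Lp2 okp2).1
/-- the element inducing a transvection -/
noncomputable def hu : Equiv.Perm ↥leechLattice := (mono 286 Lpu okpu).1
/-- the non-monomial generator -/
noncomputable def h3 : Equiv.Perm ↥leechLattice :=
  (mono 1183 Lpm okpm).1 * Cfsg.Agent.Lib.Lead.CW.xiE * (mono 2189 Lpi okpi).1

theorem h1_inC : InC h1 := mono_inC 0 Lp1 okp1 fix1 (presO Lp1 (by simp))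
theorem h2_inC : InC h2 := mono_inC 0 Lp2 okp2 fix2 (presO Lp2 (by simp))
theorem hu_inC : InC hu := mono_inC 286 Lpu okpu fixu (presO Lpu (by simp))

/-- the action of `h3` on vectors -/
def h3V (x : GolayPt → ℤ) : GolayPt → ℤ :=
  monoV 1183 Lpm (Cfsg.Agent.Lib.Lead.CW.xiV (monoV 2189 Lpi x))

theorem h3_val (x : ↥leechLattice) : (h3 x).1 = h3V x.1 := by
  show ((mono 1183 Lpm okpm).1 (Cfsg.Agent.Lib.Lead.CW.xiE ((mono 2189 Lpi okpi).1 x))).1 = _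
  rw [mono_val]
  show monoV 1183 Lpm (Cfsg.Agent.Lib.Lead.CW.xiV ((mono 2189 Lpi okpi).1 x).1) = _
  rw [mono_val]
  rfl

set_option maxRecDepth 100000 in
theorem fix3 : h3V Spor.vecU = Spor.vecU := by decide +kernel

theorem h3_inC : InC h3 := by
  refine ⟨Co0.mul_mem (Co0.mul_mem (mono 1183 Lpm okpm).2 Cfsg.Agent.Lib.Lead.CW.xiE_mem)
    (mono 2189 Lpi okpi).2, ?_, ?_⟩
  · apply Subtype.ext
    rw [h3_val]
    exact fix3
  · have e1 := mono_comm_t0 1183 Lpm okpm (presO Lpm (by simp))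
    have e2 := mono_comm_t0 2189 Lpi okpi (presO Lpi (by simp))
    have e3 := xi_comm_t0
    unfold h3
    rw [mul_assoc, mul_assoc, e2, ← mul_assoc Cfsg.Agent.Lib.Lead.CW.xiE, e3, mul_assoc,
      ← mul_assoc, e1, mul_assoc, mul_assoc]

set_option maxRecDepth 100000 in
theorem chk1 : ∀ i j : Fin 3 ⊕ Fin 3,
    ((dotInt (monoV 0 Lp1 (Ev (Sum.inl j))) (Dv (Sum.inl i)) / 16 : ℤ) : ZMod 2) =
      (((T1.getD (s6 i) []).getD (s6 j) 0 : ℕ) : ZMod 2) := by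
  decide +kernel

set_option maxRecDepth 100000 in
theorem chk2 : ∀ i j : Fin 3 ⊕ Fin 3,
    ((dotInt (monoV 0 Lp2 (Ev (Sum.inl j))) (Dv (Sum.inl i)) / 16 : ℤ) : ZMod 2) =
      (((T2.getD (s6 i) []).getD (s6 j) 0 : ℕ) : ZMod 2) := by
  decide +kernel

set_option maxRecDepth 100000 in
theorem chku : ∀ i j : Fin 3 ⊕ Fin 3,
    ((dotInt (monoV 286 Lpu (Ev (Sum.inl j))) (Dv (Sum.inl i)) / 16 : ℤ) : ZMod 2) =
      (((Tu.getD (s6 i) []).getD (s6 j) 0 : ℕ) : ZMod 2) := by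
  decide +kernel

set_option maxRecDepth 100000 in
theorem chk3 : ∀ i j : Fin 3 ⊕ Fin 3,
    ((dotInt (h3V (Ev (Sum.inl j))) (Dv (Sum.inl i)) / 16 : ℤ) : ZMod 2) =
      (((T3.getD (s6 i) []).getD (s6 j) 0 : ℕ) : ZMod 2) := by
  decide +kernel

theorem phiM_h1 : phiM h1 = matT T1 :=
  phiM_eq h1 (monoV 0 Lp1) (fun j => mono_val 0 Lp1 okp1 (EL j)) T1 chk1

theorem phiM_h2 : phiM h2 = matT T2 :=
  phiM_eq h2 (monoV 0 Lp2) (fun j => mono_val 0 Lp2 okp2 (EL j)) T2 chk2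

theorem phiM_hu : phiM hu = matT Tu :=
  phiM_eq hu (monoV 286 Lpu) (fun j => mono_val 286 Lpu okpu (EL j)) Tu chku

theorem phiM_h3 : phiM h3 = matT T3 :=
  phiM_eq h3 h3V (fun j => h3_val (EL j)) T3 chk3

/-- the homomorphism is onto -/
theorem Phi_surj : Function.Surjective Phi := by
  have h : Phi.range = ⊤ := by
    apply Cfsg.Agent.Lib.Helper11.CI.p3_gen
    · exact ⟨Phi (mkC h1 h1_inC), ⟨_, rfl⟩, phiM_h1⟩
    · exact ⟨Phi (mkC h2 h2_inC), ⟨_, rfl⟩, phiM_h2⟩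
    · exact ⟨Phi (mkC h3 h3_inC), ⟨_, rfl⟩, phiM_h3⟩
    · exact ⟨Phi (mkC hu hu_inC), ⟨_, rfl⟩, phiM_hu⟩
  exact MonoidHom.range_eq_top.mp h

end Cfsg.Agent.Lib.Lead.CI
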