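import Cfsg.Agent.Lib.Lead.Co2Inv.Kbasic
import Cfsg.Agent.Lib.Helper12.Golay.OctadStab
import Cfsg.Agent.Lib.Helper21.SympE
import Cfsg.Agent.Lib.helper4.Leech

/-!
# The pointwise stabiliser of the sublattice is extraspecial of order `2^9`
-/

set_option autoImplicit false
open Cfsg

namespace Cfsg.Agent.Lib.Lead.CI

open Cfsg.Agent.Lib.helper3 Cfsg.Agent.Lib.helper4 Cfsg.Agent.S1571 Cfsg.Agent.S0398
open Cfsg.Agent.Lib.Lead.LC
open scoped Pointwise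

/-! ### the two sets of parameters -/

/-- sign words avoiding the octad -/
def WW : Set ↥golayCode := {w | ∀ p, inO p → w.1 p = 0}

/-- permutations fixing the octad pointwise -/
def NN : Set ↥M24 := {π | ∀ p, inO p → π.1 p = p}

/-- the indices of the 32 sign words -/
def Widx : List ℕ := [0, 104, 128, 232, 776, 864, 904, 992, 1312, 1352, 1440, 1480, 1576, 1600,
  1704, 1728, 2344, 2368, 2472, 2496, 2592, 2632, 2720, 2760, 3080, 3168, 3208, 3296, 3840, 3944,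
  3968, 4072]

/-- the tables of the 16 permutations -/
def KerT : List (List ℕ) :=
  [[0, 1, 2, 3, 4, 5, 6, 7, 8, 9, 10, 11, 12, 13, 14, 15, 16, 17, 18, 19, 20, 21, 22, 23],
  [0, 1, 2, 5, 4, 3, 21, 19, 11, 10, 9, 8, 18, 13, 17, 20, 16, 14, 12, 7, 15, 6, 22, 23],
  [0, 1, 2, 6, 4, 21, 3, 14, 10, 11, 8, 9, 20, 13, 7, 18, 16, 19, 15, 17, 12, 5, 22, 23],
  [0, 1, 2, 7, 4, 19, 14, 3, 20, 18, 12, 15, 10, 13, 6, 11, 16, 21, 9, 5, 8, 17, 22, 23],
  [0, 1, 2, 8, 4, 11, 10, 20, 3, 21, 6, 5, 14, 13, 12, 19, 16, 18, 17, 15, 7, 9, 22, 23],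
  [0, 1, 2, 9, 4, 10, 11, 18, 21, 3, 5, 6, 19, 13, 15, 14, 16, 20, 7, 12, 17, 8, 22, 23],
  [0, 1, 2, 10, 4, 9, 8, 12, 6, 5, 3, 21, 7, 13, 20, 17, 16, 15, 19, 18, 14, 11, 22, 23],
  [0, 1, 2, 11, 4, 8, 9, 15, 5, 6, 21, 3, 17, 13, 18, 7, 16, 12, 14, 20, 19, 10, 22, 23],
  [0, 1, 2, 12, 4, 18, 20, 10, 14, 19, 7, 17, 3, 13, 8, 21, 16, 11, 5, 9, 6, 15, 22, 23],
  [0, 1, 2, 14, 4, 17, 7, 6, 12, 15, 20, 18, 8, 13, 3, 9, 16, 5, 11, 21, 10, 19, 22, 23],
  [0, 1, 2, 15, 4, 20, 18, 11, 19, 14, 17, 7, 21, 13, 9, 3, 16, 10, 6, 8, 5, 12, 22, 23],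
  [0, 1, 2, 17, 4, 14, 19, 21, 18, 20, 15, 12, 11, 13, 5, 10, 16, 3, 8, 6, 9, 7, 22, 23],
  [0, 1, 2, 18, 4, 12, 15, 9, 17, 7, 19, 14, 5, 13, 11, 6, 16, 8, 3, 10, 21, 20, 22, 23],
  [0, 1, 2, 19, 4, 7, 17, 5, 15, 12, 18, 20, 9, 13, 21, 8, 16, 6, 10, 3, 11, 14, 22, 23],
  [0, 1, 2, 20, 4, 15, 12, 8, 7, 17, 14, 19, 6, 13, 10, 5, 16, 9, 21, 11, 3, 18, 22, 23],
  [0, 1, 2, 21, 4, 6, 5, 17, 9, 8, 11, 10, 15, 13, 19, 12, 16, 7, 20, 14, 18, 3, 22, 23]]

abbrev tF (L : List ℕ) : GolayPt → GolayPt := Cfsg.Agent.Lib.Helper12.Golay.tblFun L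

set_option maxRecDepth 100000 in
theorem KerT_ok : ∀ L ∈ KerT, Cfsg.Agent.Lib.Helper12.Golay.okK L = true ∧
    (∀ p, inO p → tF L p = p) ∧ (∀ p, tF L (tF L p) = p) := by decide +kernel

theorem KerT_nodup : KerT.Nodup := by decide

theorem KerT_len : KerT.length = 16 := rfl

set_option maxRecDepth 100000 in
theorem Widx_complete : ∀ k < 4096, (∀ p, inO p → Cw k p = 0) → k ∈ Widx := by decide +kernel

set_option maxRecDepth 100000 in
theorem Widx_ok : ∀ a ∈ Widx, a < 4096 ∧ ∀ p, inO p → Cw a p = 0 := by decide +kernel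

theorem Widx_nodup : Widx.Nodup := by decide

set_option maxRecDepth 100000 in
theorem E1 : ∀ a ∈ Widx, ∀ L ∈ KerT, (∀ p, Cw a (tF L p) = Cw a p) ∨
    (∀ p, Cw a (tF L p) = Cw a p + Cw 4072 p) := by decide +kernel

set_option maxRecDepth 100000 in
theorem E3a : ∀ L ∈ KerT, (∀ a ∈ Widx, ∀ p, Cw a (tF L p) = Cw a p) → ∀ p, tF L p = p := by
  decide +kernel

set_option maxRecDepth 100000 in
theorem E3b : ∀ a ∈ Widx, (∀ L ∈ KerT, ∀ p, Cw a (tF L p) = Cw a p) → a = 0 ∨ a = 4072 := by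
  decide +kernel

theorem Cw_zero : ∀ p, Cw 0 p = 0 := by decide

/-! ### enumeration of the sign words -/

theorem WW_enum (w : ↥golayCode) (hw : w ∈ WW) : ∃ a ∈ Widx, w.1 = Cw a := by
  obtain ⟨k, hk, hwk⟩ := (mem_golayCode_iff w.1).mp w.2
  refine ⟨k, Widx_complete k hk ?_, hwk⟩
  intro p hp
  have := hw p hp
  rw [hwk] at this
  exact this

/-- the sign word of an index -/
def wOf (a : ℕ) : ↥golayCode := ⟨Cw a, Cw_mem a⟩

theorem wOf_mem (a : ℕ) (ha : a ∈ Widx) : wOf a ∈ WW := (Widx_ok a ha).2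

theorem WW_eq : WW = wOf '' {a | a ∈ Widx} := by
  ext w
  constructor
  · intro hw
    obtain ⟨a, ha, hwa⟩ := WW_enum w hw
    exact ⟨a, ha, Subtype.ext hwa.symm⟩
  · rintro ⟨a, ha, rfl⟩
    exact wOf_mem a ha

theorem WW_ncard : WW.ncard = 32 := by
  rw [WW_eq, Set.ncard_image_of_injOn]
  · have : {a | a ∈ Widx} = (Widx.toFinset : Set ℕ) := by
      ext a
      simp
    rw [this, Set.ncard_coe_finset, List.toFinset_card_of_nodup Widx_nodup]
    rfl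
  · intro a ha b hb hab
    exact Cw_injOn (Widx_ok a ha).1 (Widx_ok b hb).1 (congrArg Subtype.val hab)

/-! ### enumeration of the permutations -/

/-- the octad as a finset -/
def Ofin : Finset GolayPt := support₂ (Cw 23)

theorem mem_Ofin : ∀ p, p ∈ Ofin ↔ inO p := by decide

theorem Ofin_oct : Ofin ∈ octads := ⟨⟨Cw 23, Cw_mem 23, rfl⟩, by decide⟩

/-- the permutation of a table -/
noncomputable def pOf (L : List ℕ) (hL : L ∈ KerT) : ↥M24 :=
  ⟨fperm L, fperm_mem (KerT_ok L hL).1⟩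

theorem pOf_apply (L : List ℕ) (hL : L ∈ KerT) (p : GolayPt) : (pOf L hL).1 p = tF L p :=
  fperm_apply (Cfsg.Agent.Lib.Helper12.Golay.okK_valid (KerT_ok L hL).1) p

theorem pOf_mem (L : List ℕ) (hL : L ∈ KerT) : pOf L hL ∈ NN := by
  intro p hp
  rw [pOf_apply]
  exact (KerT_ok L hL).2.1 p hp

theorem NN_pres (π : ↥M24) (hπ : π ∈ NN) (k : GolayPt) : inO (π.1 k) ↔ inO k :=
  Kset_pres ⟨0, golayCode.zero_mem⟩ π hπ k

theorem NN_ncard : NN.ncard = 16 := by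
  classical
  have h16 := Cfsg.Agent.Lib.Helper12.Golay.card_ker_resHom Ofin Ofin_oct
  let f : ↥(Cfsg.Agent.Lib.Helper12.Golay.resHom Ofin).ker → ↥M24 := fun g => ⟨g.1.1, g.1.2.1⟩
  have hf : Function.Injective f := by
    intro a b h
    apply Subtype.ext
    apply Subtype.ext
    exact congrArg (fun x : ↥M24 => x.1) h
  have hr : Set.range f = NN := by
    ext π
    constructor
    · rintro ⟨g, rfl⟩
      intro p hp
      exact (Cfsg.Agent.Lib.Helper12.Golay.mem_ker_resHom Ofin g.1).mp g.2 p ((mem_Ofin p).mpr hp)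
    · intro hπ
      have hst : π.1 ∈ MulAction.stabilizer (Equiv.Perm GolayPt) Ofin := by
        rw [Cfsg.Agent.Lib.Helper12.Golay.mem_stab_iff]
        intro x
        rw [mem_Ofin, mem_Ofin]
        exact NN_pres π hπ x
      refine ⟨⟨⟨π.1, ⟨π.2, hst⟩⟩, ?_⟩, rfl⟩
      rw [Cfsg.Agent.Lib.Helper12.Golay.mem_ker_resHom]
      intro x hx
      exact hπ x ((mem_Ofin x).mp hx)
  rw [← hr, ← Nat.card_coe_set_eq, Nat.card_range_of_injective hf, h16]

theorem NN_eq : NN = {π | ∃ (L : List ℕ) (hL : L ∈ KerT), π = pOf L hL} := by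
  symm
  apply Set.eq_of_subset_of_ncard_le
  · rintro π ⟨L, hL, rfl⟩
    exact pOf_mem L hL
  · rw [NN_ncard]
    let f : {L // L ∈ KerT} → ↥M24 := fun L => pOf L.1 L.2
    have hf : Function.Injective f := by
      intro a b h
      apply Subtype.ext
      have h1 : fperm a.1 = fperm b.1 := congrArg (fun x : ↥M24 => x.1) h
      rw [← tblOf_fperm (Cfsg.Agent.Lib.Helper12.Golay.okK_valid (KerT_ok a.1 a.2).1),
        ← tblOf_fperm (Cfsg.Agent.Lib.Helper12.Golay.okK_valid (KerT_ok b.1 b.2).1), h1]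
    have hr : {π | ∃ (L : List ℕ) (hL : L ∈ KerT), π = pOf L hL} = Set.range f := by
      ext π
      constructor
      · rintro ⟨L, hL, rfl⟩
        exact ⟨⟨L, hL⟩, rfl⟩
      · rintro ⟨L, rfl⟩
        exact ⟨L.1, L.2, rfl⟩
    rw [hr, ← Nat.card_coe_set_eq, Nat.card_range_of_injective hf]
    have : Nat.card {L // L ∈ KerT} = 16 := by
      rw [Nat.card_eq_fintype_card]
      have h2 : Fintype.card {L // L ∈ KerT} = KerT.toFinset.card := by
        rw [← Fintype.card_coe]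
        apply Fintype.card_congr
        exact Equiv.subtypeEquivRight (fun L => by simp)
      rw [h2, List.toFinset_card_of_nodup KerT_nodup]
      rfl
    rw [this]
  · exact Set.toFinite _

theorem NN_enum (π : ↥M24) (hπ : π ∈ NN) : ∃ (L : List ℕ) (hL : L ∈ KerT), π = pOf L hL := by
  rw [NN_eq] at hπ
  exact hπ

/-! ### consequences of the enumeration -/

theorem NN_sq (π : ↥M24) (hπ : π ∈ NN) : π * π = 1 := by
  obtain ⟨L, hL, rfl⟩ := NN_enum π hπ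
  apply Subtype.ext
  apply Equiv.ext
  intro p
  show (pOf L hL).1 ((pOf L hL).1 p) = p
  rw [pOf_apply, pOf_apply]
  exact (KerT_ok L hL).2.2 p

theorem NN_mul (π π' : ↥M24) (hπ : π ∈ NN) (hπ' : π' ∈ NN) : π * π' ∈ NN := by
  intro p hp
  show π.1 (π'.1 p) = p
  rw [hπ' p hp, hπ p hp]

theorem NN_comm (π π' : ↥M24) (hπ : π ∈ NN) (hπ' : π' ∈ NN) : π * π' = π' * π := by
  have h1 := NN_sq (π * π') (NN_mul π π' hπ hπ')
  have e1 : π * π' = (π * π')⁻¹ := eq_inv_of_mul_eq_one_left h1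
  have e2 : π = π⁻¹ := eq_inv_of_mul_eq_one_left (NN_sq π hπ)
  have e3 : π' = π'⁻¹ := eq_inv_of_mul_eq_one_left (NN_sq π' hπ')
  rw [e1, mul_inv_rev, ← e2, ← e3]

/-- the change of a sign word under a permutation of the stabiliser -/
theorem comp_cases (w : ↥golayCode) (π : ↥M24) (hw : w ∈ WW) (hπ : π ∈ NN) :
    (∀ p, w.1 (π.1 p) = w.1 p) ∨ (∀ p, w.1 (π.1 p) = w.1 p + Cw 4072 p) := by
  obtain ⟨a, ha, hwa⟩ := WW_enum w hw
  obtain ⟨L, hL, rfl⟩ := NN_enum π hπ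
  rcases E1 a ha L hL with h | h
  · left
    intro p
    rw [hwa, pOf_apply]
    exact h p
  · right
    intro p
    rw [hwa, pOf_apply]
    exact h p

theorem nondeg_perm (π : ↥M24) (hπ : π ∈ NN) (h : ∀ w ∈ WW, ∀ p, w.1 (π.1 p) = w.1 p) : π = 1 := by
  obtain ⟨L, hL, rfl⟩ := NN_enum π hπ
  apply Subtype.ext
  apply Equiv.ext
  intro p
  rw [pOf_apply]
  apply E3a L hL
  intro a ha q
  have := h (wOf a) (wOf_mem a ha) q
  rw [pOf_apply] at this
  exact this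

theorem nondeg_word (w : ↥golayCode) (hw : w ∈ WW) (h : ∀ π ∈ NN, ∀ p, w.1 (π.1 p) = w.1 p) :
    w = wOf 0 ∨ w = wOf 4072 := by
  obtain ⟨a, ha, hwa⟩ := WW_enum w hw
  have h1 : a = 0 ∨ a = 4072 := by
    apply E3b a ha
    intro L hL p
    have := h (pOf L hL) (pOf_mem L hL) p
    rw [pOf_apply, hwa] at this
    exact this
  rcases h1 with rfl | rfl
  · left; exact Subtype.ext hwa
  · right; exact Subtype.ext hwa

end Cfsg.Agent.Lib.Lead.CI
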