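import Cfsg.Agent.Lib.Lead.Co2Inv.Extra

/-!
# The pointwise stabiliser of the sublattice is extraspecial of order `2^9` (second part)
-/

set_option autoImplicit false
open Cfsg

namespace Cfsg.Agent.Lib.Lead.CI

open Cfsg.Agent.Lib.helper3 Cfsg.Agent.Lib.helper4 Cfsg.Agent.S1571 Cfsg.Agent.S0398
open Cfsg.Agent.Lib.Lead.LC

/-- the pointwise stabiliser of the sublattice -/
def Kfix : Subgroup (Equiv.Perm ↥leechLattice) where
  carrier := {g | g ∈ Co0 ∧ ∀ x : ↥leechLattice, suppO x.1 → g x = x}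
  one_mem' := ⟨Co0.one_mem, fun _ _ => rfl⟩
  mul_mem' := by
    rintro a b ⟨ha, ha'⟩ ⟨hb, hb'⟩
    refine ⟨Co0.mul_mem ha hb, fun x hx => ?_⟩
    rw [Equiv.Perm.mul_apply, hb' x hx, ha' x hx]
  inv_mem' := by
    rintro a ⟨ha, ha'⟩
    refine ⟨Co0.inv_mem ha, fun x hx => ?_⟩
    rw [Equiv.Perm.inv_eq_iff_eq]
    exact (ha' x hx).symm

theorem suppO_ev (p : GolayPt) (hp : inO p) : suppO (ev p).1 := by
  intro q hq
  rw [ev_val]
  apply Pi.single_eq_of_ne
  intro h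
  rw [h] at hq
  exact hq hp

theorem Kfix_struct (g : Equiv.Perm ↥leechLattice) (hg : g ∈ Kfix) :
    ∃ w ∈ WW, ∃ π ∈ NN, g = (mk w π).1 := by
  obtain ⟨h0, hfix⟩ := hg
  have h1 : g (ev none) = ev none := hfix _ (suppO_ev none (by decide))
  have hH : (⟨g, h0⟩ : ↥Co0) ∈ Cfsg.Agent.Lib.Lead.CO.H := by
    rw [Cfsg.Agent.Lib.Lead.CO.mem_H]
    show Cfsg.Agent.Lib.Lead.LX.cl (g (ev none)).1 = _
    rw [h1]
  obtain ⟨w, π, hwπ⟩ := stab_eq_mk _ ((Cfsg.Agent.Lib.Lead.CO.mem_H_iff_stab _).mp hH)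
  have hg' : g = (mk w π).1 := congrArg Subtype.val hwπ
  refine ⟨w, ?_, π, ?_, hg'⟩
  · intro p hp
    have := hfix _ (suppO_ev p hp)
    rw [hg'] at this
    exact (fix_ev w π p this).1
  · intro p hp
    have := hfix _ (suppO_ev p hp)
    rw [hg'] at this
    exact (fix_ev w π p this).2

theorem mk_mem_Kfix (w : ↥golayCode) (π : ↥M24) (hw : w ∈ WW) (hπ : π ∈ NN) :
    (mk w π).1 ∈ Kfix :=
  ⟨(mk w π).2, Kset_fix _ ⟨w, π, hw, hπ, rfl⟩⟩

theorem Kfix_sub_Kset (g : Equiv.Perm ↥leechLattice) (hg : g ∈ Kfix) : g ∈ Kset := by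
  obtain ⟨w, hw, π, hπ, rfl⟩ := Kfix_struct g hg
  exact ⟨w, π, hw, hπ, rfl⟩

/-! ### products -/

/-- combination of sign words -/
def wadd (w w' : ↥golayCode) (π : ↥M24) : ↥golayCode :=
  ⟨fun k => w.1 k + w'.1 (π.1 k), golayCode.add_mem w.2 (comp_mem_golay π.2 w'.2)⟩

theorem sign_add (a b : ZMod 2) (y : ℤ) :
    (if a ≠ 0 then -(if b ≠ 0 then -y else y) else (if b ≠ 0 then -y else y)) =
      if a + b ≠ 0 then -y else y := by
  have ha : a = 0 ∨ a = 1 := by revert a; decide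
  have hb : b = 0 ∨ b = 1 := by revert b; decide
  have h11 : (1 : ZMod 2) + 1 = 0 := by decide
  rcases ha with rfl | rfl <;> rcases hb with rfl | rfl <;> simp [h11]

theorem mk_mul (w w' : ↥golayCode) (π π' : ↥M24) :
    (mk w π).1 * (mk w' π').1 = (mk (wadd w w' π) (π' * π)).1 := by
  apply Equiv.ext
  intro x
  apply Subtype.ext
  funext k
  show ((mk w π).1 ((mk w' π').1 x)).1 k = _
  have h1 := congrFun (mk_apply w π ((mk w' π').1 x)) k
  have h2 := congrFun (mk_apply w' π' x) (π.1 k)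
  have h3 := congrFun (mk_apply (wadd w w' π) (π' * π) x) k
  rw [h1, h2, h3]
  exact sign_add (w.1 k) (w'.1 (π.1 k)) (x.1 (π'.1 (π.1 k)))

theorem mk_congr (w w' : ↥golayCode) (π π' : ↥M24) (hw : ∀ k, w.1 k = w'.1 k) (hπ : π = π') :
    (mk w π).1 = (mk w' π').1 := by
  have : w = w' := Subtype.ext (funext hw)
  rw [this, hπ]

theorem mk_val_inj (w w' : ↥golayCode) (π π' : ↥M24) (h : (mk w π).1 = (mk w' π').1) :
    w = w' ∧ π = π' := mk_inj w w' π π' (Subtype.ext h)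

theorem mk_one' : (mk (wOf 0) 1).1 = 1 := by
  apply Equiv.ext
  intro x
  apply Subtype.ext
  funext k
  have h1 := congrFun (mk_apply (wOf 0) 1 x) k
  rw [h1, if_neg]
  · rfl
  · intro h
    exact h (Cw_zero k)

theorem mk_t0 : (mk (wOf 4072) 1).1 = t0 := by
  apply Equiv.ext
  intro x
  apply Subtype.ext
  funext k
  have h1 := congrFun (mk_apply (wOf 4072) 1 x) k
  rw [h1]
  rfl

theorem wOf0_mem : wOf 0 ∈ WW := wOf_mem 0 (by decide)
theorem wOfc_mem : wOf 4072 ∈ WW := wOf_mem 4072 (by decide)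
theorem one_mem_NN : (1 : ↥M24) ∈ NN := fun _ _ => rfl

theorem t0_mem_Kfix : t0 ∈ Kfix := by
  rw [← mk_t0]
  exact mk_mem_Kfix _ _ wOfc_mem one_mem_NN

/-- left multiplication by the involution -/
theorem t0_mul_mk (u : ↥golayCode) (ρ : ↥M24) (u' : ↥golayCode)
    (h : ∀ k, u'.1 k = u.1 k + Cw 4072 k) : t0 * (mk u ρ).1 = (mk u' ρ).1 := by
  rw [← mk_t0, mk_mul]
  apply mk_congr
  · intro k
    show Cw 4072 k + u.1 k = u'.1 k
    rw [h k, add_comm]
  · rw [mul_one]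

/-- the commutation rule -/
theorem comm_cases (w w' : ↥golayCode) (π π' : ↥M24) (hw : w ∈ WW) (hw' : w' ∈ WW)
    (hπ : π ∈ NN) (hπ' : π' ∈ NN) :
    (mk w π).1 * (mk w' π').1 = (mk w' π').1 * (mk w π).1 ∨
    (mk w π).1 * (mk w' π').1 = t0 * ((mk w' π').1 * (mk w π).1) := by
  have hc := NN_comm π' π hπ' hπ
  rw [mk_mul, mk_mul]
  rcases comp_cases w' π hw' hπ with h1 | h1 <;> rcases comp_cases w π' hw hπ' with h2 | h2
  · left
    apply mk_congr _ _ _ _ _ hc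
    intro k
    show w.1 k + w'.1 (π.1 k) = w'.1 k + w.1 (π'.1 k)
    rw [h1, h2, add_comm]
  · right
    rw [t0_mul_mk (wadd w' w π') (π * π') (wadd w w' π)]
    · exact mk_congr _ _ _ _ (fun _ => rfl) hc
    · intro k
      show w.1 k + w'.1 (π.1 k) = w'.1 k + w.1 (π'.1 k) + Cw 4072 k
      rw [h1, h2]
      have : ∀ a b c : ZMod 2, a + b = b + (a + c) + c := by decide
      exact this _ _ _
  · right
    rw [t0_mul_mk (wadd w' w π') (π * π') (wadd w w' π)]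
    · exact mk_congr _ _ _ _ (fun _ => rfl) hc
    · intro k
      show w.1 k + w'.1 (π.1 k) = w'.1 k + w.1 (π'.1 k) + Cw 4072 k
      rw [h1, h2]
      have : ∀ a b c : ZMod 2, a + (b + c) = b + a + c := by decide
      exact this _ _ _
  · left
    apply mk_congr _ _ _ _ _ hc
    intro k
    show w.1 k + w'.1 (π.1 k) = w'.1 k + w.1 (π'.1 k)
    rw [h1, h2]
    have : ∀ a b c : ZMod 2, a + (b + c) = b + (a + c) := by decide
    exact this _ _ _

theorem sq_cases (w : ↥golayCode) (π : ↥M24) (hw : w ∈ WW) (hπ : π ∈ NN) :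
    (mk w π).1 * (mk w π).1 = 1 ∨ (mk w π).1 * (mk w π).1 = t0 := by
  rw [mk_mul, NN_sq π hπ]
  rcases comp_cases w π hw hπ with h | h
  · left
    rw [← mk_one']
    apply mk_congr _ _ _ _ _ rfl
    intro k
    show w.1 k + w.1 (π.1 k) = Cw 0 k
    rw [h, Cw_zero]
    have : ∀ a : ZMod 2, a + a = 0 := by decide
    exact this _
  · right
    rw [← mk_t0]
    apply mk_congr _ _ _ _ _ rfl
    intro k
    show w.1 k + w.1 (π.1 k) = Cw 4072 k
    rw [h]
    have : ∀ a c : ZMod 2, a + (a + c) = c := by decide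
    exact this _ _

/-! ### the order -/

theorem card_Kfix : Nat.card ↥Kfix = 512 := by
  classical
  let f : ↥WW × ↥NN → ↥Kfix := fun ab => ⟨(mk ab.1.1 ab.2.1).1, mk_mem_Kfix _ _ ab.1.2 ab.2.2⟩
  have hf : Function.Bijective f := by
    constructor
    · rintro ⟨⟨w, hw⟩, ⟨π, hπ⟩⟩ ⟨⟨w', hw'⟩, ⟨π', hπ'⟩⟩ h
      have h1 : (mk w π).1 = (mk w' π').1 := congrArg (fun z : ↥Kfix => z.1) h
      obtain ⟨e1, e2⟩ := mk_val_inj _ _ _ _ h1
      subst e1
      subst e2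
      rfl
    · rintro ⟨g, hg⟩
      obtain ⟨w, hw, π, hπ, rfl⟩ := Kfix_struct g hg
      exact ⟨(⟨w, hw⟩, ⟨π, hπ⟩), rfl⟩
  rw [← Nat.card_congr (Equiv.ofBijective f hf), Nat.card_prod, Nat.card_coe_set_eq,
    Nat.card_coe_set_eq, WW_ncard, NN_ncard]

instance finKfix : Finite ↥Kfix := Nat.finite_of_card_ne_zero (by rw [card_Kfix]; norm_num)

/-! ### extraspecial -/

/-- the central involution of the stabiliser -/
def zK : ↥Kfix := ⟨t0, t0_mem_Kfix⟩

theorem t0_sq' : t0 * t0 = 1 := by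
  apply Equiv.ext
  intro x
  apply Subtype.ext
  funext p
  show (t0 (t0 x)).1 p = x.1 p
  rw [t0_apply, t0_apply]
  split_ifs <;> ring

theorem t0_ne_one' : t0 ≠ 1 := by
  intro h
  have h1 : t0 (ev (some 3)) = ev (some 3) := by rw [h]; rfl
  rw [t0_fixed_iff] at h1
  have h2 := h1 (some 3) (by decide)
  rw [ev_val, Pi.single_eq_same] at h2
  omega

theorem zK_order : orderOf zK = 2 := by
  apply orderOf_eq_prime
  · apply Subtype.ext
    show t0 ^ 2 = 1
    rw [pow_two]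
    exact t0_sq'
  · intro h
    exact t0_ne_one' (congrArg Subtype.val h)

theorem mem_zp (x : ↥Kfix) (h : x.1 = 1 ∨ x.1 = t0) : x ∈ Subgroup.zpowers zK := by
  rcases h with h | h
  · have : x = 1 := Subtype.ext h
    rw [this]
    exact Subgroup.one_mem _
  · have : x = zK := Subtype.ext h
    rw [this]
    exact Subgroup.mem_zpowers zK

theorem z2_cancel : ∀ a b c : ZMod 2, a + b = c + a → b = c := by decide

theorem nonab_chk : ¬ (Cw 0 (some 3) +
    Cw 104 (tF [0, 1, 2, 7, 4, 19, 14, 3, 20, 18, 12, 15, 10, 13, 6, 11, 16, 21, 9, 5, 8, 17, 22, 23]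
      (some 3)) = Cw 104 (some 3) + Cw 0 (some 3)) := by decide

theorem Kfix_xs : Cfsg.IsExtraspecial 2 ↥Kfix := by
  haveI : Fact (Nat.Prime 2) := ⟨Nat.prime_two⟩
  have hP : IsPGroup 2 ↥Kfix := IsPGroup.of_card (n := 9) (by rw [card_Kfix]; norm_num)
  apply Cfsg.Agent.Lib.Helper21.Symp.isExtraspecial_of_elements hP zK zK_order
  · -- central
    intro g
    apply Subtype.ext
    show g.1 * t0 = t0 * g.1
    exact (Kset_inC g.1 (Kfix_sub_Kset g.1 g.2)).2.2
  · -- centre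
    intro x hx
    obtain ⟨w, hw, π, hπ, hxe⟩ := Kfix_struct x.1 x.2
    have hπ1 : π = 1 := by
      apply nondeg_perm π hπ
      intro w' hw' p
      have h := congrArg Subtype.val (hx ⟨(mk w' 1).1, mk_mem_Kfix _ _ hw' one_mem_NN⟩)
      have h' : (mk w π).1 * (mk w' 1).1 = (mk w' 1).1 * (mk w π).1 := by
        rw [← hxe]
        exact h
      rw [mk_mul, mk_mul] at h'
      have e := (mk_val_inj _ _ _ _ h').1
      have e2 := congrFun (congrArg Subtype.val e) p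
      have e3 : w.1 p + w'.1 (π.1 p) = w'.1 p + w.1 p := e2
      exact z2_cancel _ _ _ e3
    have hw1 : w = wOf 0 ∨ w = wOf 4072 := by
      apply nondeg_word w hw
      intro π' hπ' p
      have h := congrArg Subtype.val (hx ⟨(mk (wOf 0) π').1, mk_mem_Kfix _ _ wOf0_mem hπ'⟩)
      have h' : (mk w π).1 * (mk (wOf 0) π').1 = (mk (wOf 0) π').1 * (mk w π).1 := by
        rw [← hxe]
        exact h
      rw [mk_mul, mk_mul] at h'
      have e := (mk_val_inj _ _ _ _ h').1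
      have e2 := congrFun (congrArg Subtype.val e) p
      have e3 : w.1 p + Cw 0 (π.1 p) = Cw 0 p + w.1 (π'.1 p) := e2
      rw [Cw_zero, Cw_zero, add_zero, zero_add] at e3
      exact e3.symm
    apply mem_zp
    rw [hxe, hπ1]
    rcases hw1 with rfl | rfl
    · left; exact mk_one'
    · right; exact mk_t0
  · -- commutators
    intro x y
    obtain ⟨w, hw, π, hπ, hxe⟩ := Kfix_struct x.1 x.2
    obtain ⟨w', hw', π', hπ', hye⟩ := Kfix_struct y.1 y.2
    apply mem_zp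
    have hc := comm_cases w w' π π' hw hw' hπ hπ'
    rw [← hxe, ← hye] at hc
    show x.1 * y.1 * x.1⁻¹ * y.1⁻¹ = 1 ∨ x.1 * y.1 * x.1⁻¹ * y.1⁻¹ = t0
    rcases hc with h | h
    · left
      rw [h]
      group
    · right
      rw [h]
      group
  · -- squares
    intro x
    obtain ⟨w, hw, π, hπ, hxe⟩ := Kfix_struct x.1 x.2
    apply mem_zp
    show x.1 ^ 2 = 1 ∨ x.1 ^ 2 = t0
    rw [pow_two, hxe]
    exact sq_cases w π hw hπ
  · -- non-abelian
    have hL : [0, 1, 2, 7, 4, 19, 14, 3, 20, 18, 12, 15, 10, 13, 6, 11, 16, 21, 9, 5, 8, 17, 22, 23]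
        ∈ KerT := by decide
    refine ⟨⟨(mk (wOf 0) (pOf _ hL)).1, mk_mem_Kfix _ _ wOf0_mem (pOf_mem _ hL)⟩,
      ⟨(mk (wOf 104) 1).1, mk_mem_Kfix _ _ (wOf_mem 104 (by decide)) one_mem_NN⟩, ?_⟩
    intro h
    have h' := congrArg Subtype.val h
    have h'' : (mk (wOf 0) (pOf _ hL)).1 * (mk (wOf 104) 1).1 =
        (mk (wOf 104) 1).1 * (mk (wOf 0) (pOf _ hL)).1 := h'
    rw [mk_mul, mk_mul] at h''
    have e := (mk_val_inj _ _ _ _ h'').1
    have e2 := congrFun (congrArg Subtype.val e) (some 3)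
    have e3 : Cw 0 (some 3) + Cw 104 ((pOf _ hL).1 (some 3)) = Cw 104 (some 3) + Cw 0 (some 3) := e2
    rw [pOf_apply] at e3
    exact nonab_chk e3

/-- piece P5 -/
theorem p5' : ∃ K : Subgroup (Equiv.Perm ↥leechLattice),
    (K : Set (Equiv.Perm ↥leechLattice)) = Kset ∧ Nat.card ↥K = 512 ∧ Cfsg.IsExtraspecial 2 ↥K := by
  refine ⟨Kfix, ?_, card_Kfix, Kfix_xs⟩
  ext g
  constructor
  · exact Kfix_sub_Kset g
  · rintro ⟨w, π, hw, hπ, rfl⟩
    exact mk_mem_Kfix w π hw hπ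

end Cfsg.Agent.Lib.Lead.CI
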