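import Cfsg.Agent.Lib.Lead.Co2Inv.Extra2
import Cfsg.Agent.Lib.Helper22.CIP2
import Cfsg.Agent.S0245
import Cfsg.Agent.Lib.helper23.CentShape

/-!
# The centraliser has shape `2^{1+8}.Sp6(2)`
-/

set_option autoImplicit false
open Cfsg

namespace Cfsg.Agent.Lib.Lead.CI

open Cfsg.Agent.Lib.helper3 Cfsg.Agent.Lib.helper4 Cfsg.Agent.S1571 Cfsg.Agent.S0398
open Cfsg.Agent.Lib.Lead.LC

/-! ### the order of the involution -/

theorem tt_order : orderOf tt = 2 := by
  apply orderOf_eq_prime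
  · apply Subtype.ext
    show t0 ^ 2 = 1
    rw [pow_two]
    exact t0_sq'
  · intro h
    exact t0_ne_one' (congrArg Subtype.val h)

/-! ### the kernel -/

/-- the kernel as a group of permutations of the lattice -/
noncomputable def iota : ↥Phi.ker →* Equiv.Perm ↥leechLattice :=
  (Spor.Co2.subtype.comp Cent.subtype).comp Phi.ker.subtype

theorem iota_apply (x : ↥Phi.ker) : iota x = x.1.1.1 := rfl

theorem iota_inj : Function.Injective iota := by
  intro x y h
  apply Subtype.ext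
  apply Subtype.ext
  apply Subtype.ext
  exact h

theorem card_Sp : Nat.card (Matrix.symplecticGroup (Fin 3) (ZMod 2)) = 1451520 := by
  rw [Cfsg.Agent.S0245.result (F := ZMod 2) (q := 2) (ZMod.card 2) 3]
  norm_num [Finset.prod_range_succ]

theorem card_ker_le : Nat.card ↥Phi.ker ≤ 512 := by
  have h1 := Subgroup.card_eq_card_quotient_mul_card_subgroup Phi.ker
  have h2 : Nat.card (↥Cent ⧸ Phi.ker) = 1451520 := by
    rw [Nat.card_congr (QuotientGroup.quotientKerEquivOfSurjective Phi Phi_surj).toEquiv, card_Sp]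
  have h3 := card_Cent_le
  rw [h1, h2] at h3
  omega

theorem main_aux : Cfsg.IsExtraspecial 2 ↥Phi.ker ∧ Nat.card ↥Phi.ker = 2 ^ 9 := by
  obtain ⟨K, hKset, hKcard, hKxs⟩ := p5'
  have : Finite ↥iota.range := Finite.of_equiv _ (MonoidHom.ofInjective iota_inj).toEquiv
  have hcr : Nat.card ↥iota.range = Nat.card ↥Phi.ker :=
    (Nat.card_congr (MonoidHom.ofInjective iota_inj).toEquiv).symm
  have hle : K ≤ iota.range := by
    intro g hg
    have hg' : g ∈ Kset := by rw [← hKset]; exact hg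
    have hmem : mkC g (Kset_inC g hg') ∈ Phi.ker := by
      rw [MonoidHom.mem_ker]
      apply Subtype.ext
      exact Kset_phi g hg'
    exact ⟨⟨mkC g (Kset_inC g hg'), hmem⟩, rfl⟩
  have heq : K = iota.range := by
    apply Subgroup.eq_of_le_of_card_ge hle
    rw [hcr, hKcard]
    exact card_ker_le
  let e : ↥Phi.ker ≃* ↥K :=
    (MonoidHom.ofInjective iota_inj).trans (MulEquiv.subgroupCongr heq.symm)
  refine ⟨Cfsg.Agent.Lib.helper23.cs_xs_of_mulEquiv e.symm hKxs, ?_⟩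
  rw [Nat.card_congr e.toEquiv, hKcard]
  norm_num

theorem main : ∃ t : ↥Cfsg.Spor.Co2, orderOf t = 2 ∧
    Cfsg.IsExtraspecial 2 (Cfsg.pCore 2 ↥(Subgroup.centralizer ({t} : Set ↥Cfsg.Spor.Co2))) ∧
    Nat.card (Cfsg.pCore 2 ↥(Subgroup.centralizer ({t} : Set ↥Cfsg.Spor.Co2))) = 2 ^ 9 ∧
    Nonempty (↥(Subgroup.centralizer ({t} : Set ↥Cfsg.Spor.Co2)) ⧸
      Cfsg.pCore 2 ↥(Subgroup.centralizer ({t} : Set ↥Cfsg.Spor.Co2)) ≃*
        Matrix.symplecticGroup (Fin 3) (ZMod 2)) := by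
  obtain ⟨h1, h2, h3⟩ := Cfsg.Agent.Lib.Helper22.CI.p2_assemble Phi Phi_surj main_aux.1 main_aux.2
  exact ⟨tt, tt_order, h1, h2, h3⟩

end Cfsg.Agent.Lib.Lead.CI
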