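import Cfsg.Agent.Lib.Lead.Co2Inv.Bound

/-!
# Elements fixing the sublattice pointwise
-/

set_option autoImplicit false
open Cfsg

namespace Cfsg.Agent.Lib.Lead.CI

open Cfsg.Agent.Lib.helper3 Cfsg.Agent.Lib.helper4 Cfsg.Agent.S1571 Cfsg.Agent.S0398
open Cfsg.Agent.Lib.Lead.LC

/-! ### the elements of `Kset` -/

theorem Kset_pres (w : ↥golayCode) (π : ↥M24) (hπ : ∀ p, inO p → π.1 p = p) (k : GolayPt) :
    inO (π.1 k) ↔ inO k := by
  constructor
  · intro h2
    have h3 := hπ (π.1 k) h2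
    have h4 := π.1.injective h3
    rw [h4] at h2
    exact h2
  · intro h
    rw [hπ k h]
    exact h

theorem Kset_fix (g : Equiv.Perm ↥leechLattice) (hg : g ∈ Kset) (x : ↥leechLattice)
    (hs : suppO x.1) : g x = x := by
  obtain ⟨w, π, hw, hπ, rfl⟩ := hg
  apply Subtype.ext
  funext k
  have h := congrFun (mk_apply w π x) k
  rw [h]
  by_cases hk : inO k
  · rw [hπ k hk, if_neg]
    intro hne
    exact hne (hw k hk)
  · have h2 : ¬ inO (π.1 k) := fun h2 => hk ((Kset_pres w π hπ k).mp h2)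
    rw [hs _ h2, hs k hk]
    simp

theorem suppO_U : suppO Spor.leechU.1 := by
  unfold suppO
  decide

theorem Kset_inC (g : Equiv.Perm ↥leechLattice) (hg : g ∈ Kset) : InC g := by
  have hfix := Kset_fix g hg
  obtain ⟨w, π, hw, hπ, rfl⟩ := hg
  refine ⟨(mk w π).2, hfix _ suppO_U, ?_⟩
  apply Equiv.ext
  intro x
  apply Subtype.ext
  funext k
  show ((mk w π).1 (t0 x)).1 k = (t0 ((mk w π).1 x)).1 k
  have h1 := congrFun (mk_apply w π (t0 x)) k
  have h2 := congrFun (mk_apply w π x) k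
  rw [h1, t0_apply, t0_apply, h2]
  by_cases hk : inO k
  · rw [if_pos ((Kset_pres w π hπ k).mpr hk), if_pos hk]
  · rw [if_neg (fun h => hk ((Kset_pres w π hπ k).mp h)), if_neg hk]
    split_ifs <;> ring

theorem Kset_phi (g : Equiv.Perm ↥leechLattice) (hg : g ∈ Kset) : phiM g = 1 := by
  have h : rho g = rho 1 := by
    funext k j
    show co (g (EL j)).1 k = co ((1 : Equiv.Perm ↥leechLattice) (EL j)).1 k
    rw [Kset_fix g hg (EL j) (Ev_supp j)]
    rfl
  unfold phiM rho2
  rw [h]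
  exact phiM_one

end Cfsg.Agent.Lib.Lead.CI
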